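import Cfsg.Agent.Lib.Char.Det
import Cfsg.Agent.Lib.Block.PMinusTwo.Central
import Cfsg.Agent.Lib.Block.Separated
import Cfsg.Agent.Lib.Block.ConstFour.DegreeThree
import Cfsg.Agent.Lib.Char.ModP
import Cfsg.Agent.S0143
import Cfsg.Agent.S4500
import Cfsg.Agent.Lib.Fus.SelfCentThree.Main

/-!
Simple groups of order `3 p^a q^b`, `a ≤ 2`: a character of degree three of defect zero for the
prime three forces a self-centralizing subgroup of order three.
-/

set_option autoImplicit false
set_option linter.unusedSectionVars false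

namespace Cfsg.Agent.Block.FourPQ

open Cfsg Cfsg.Agent.Block Cfsg.Agent.Char
open scoped ComplexConjugate commutatorElement

universe u

variable {G : Type u} [Group G] [Finite G] [IsSimpleGroup G]

theorem center_bot (hna : ∃ x y : G, x * y ≠ y * x) : Subgroup.center G = ⊥ := by
  rcases (inferInstance : (Subgroup.center G).Normal).eq_bot_or_eq_top with h | h
  · exact h
  · obtain ⟨x, y, hxy⟩ := hna
    exact absurd (Subgroup.mem_center_iff.1 (h ▸ Subgroup.mem_top y) x) hxy

theorem commutator_top (hna : ∃ x y : G, x * y ≠ y * x) : commutator G = ⊤ := by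
  rcases (inferInstance : (commutator G).Normal).eq_bot_or_eq_top with h | h
  · obtain ⟨x, y, hxy⟩ := hna
    refine absurd ?_ hxy
    have h1 : ⁅x, y⁆ ∈ commutator G := by
      rw [commutator_def]
      exact Subgroup.commutator_mem_commutator (Subgroup.mem_top x) (Subgroup.mem_top y)
    rw [h, Subgroup.mem_bot, commutatorElement_eq_one_iff_mul_comm] at h1
    exact h1
  · exact h

theorem not_solvable (hna : ∃ x y : G, x * y ≠ y * x) : ¬ Group.IsSolvable G := by
  intro hs
  have h := IsSolvable.commutator_lt_top_of_nontrivial G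
  exact h.ne (commutator_top hna)

/-- Burnside: at least three primes divide the order. -/
theorem three_primes (hna : ∃ x y : G, x * y ≠ y * x) {p q : ℕ} (hp : p.Prime) (hq : q.Prime)
    (h : ∀ r : ℕ, r.Prime → r ∣ Nat.card G → r = p ∨ r = q) : False := by
  obtain ⟨s, hs, hsd⟩ := Nat.exists_prime_and_dvd (Finite.one_lt_card (α := G)).ne'
  haveI := Fact.mk hs
  let P : Sylow s G := default
  have hPne := P.ne_bot_of_dvd_card hsd
  haveI : Nontrivial (P : Subgroup G) := (Subgroup.nontrivial_iff_ne_bot _).2 hPne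
  obtain ⟨z, hz, hz1⟩ := (Subgroup.ne_bot_iff_exists_ne_one.1
    (bot_lt_iff_ne_bot.1 P.isPGroup'.bot_lt_center)) |> fun ⟨z, hz⟩ =>
      (⟨z.1, z.2, fun e => hz (Subtype.ext e)⟩ : ∃ z : (P : Subgroup G), z ∈ Subgroup.center _ ∧ z ≠ 1)
  set C := Subgroup.centralizer ({(z : G)} : Set G) with hC
  have hPC : (P : Subgroup G) ≤ C := fun u hu => Subgroup.mem_centralizer_singleton_iff.2
    (congrArg Subtype.val (Subgroup.mem_center_iff.1 hz ⟨u, hu⟩))
  have hsC : ¬ s ∣ C.index := fun hd =>
    P.not_dvd_index (hd.trans (Subgroup.index_dvd_of_le hPC))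
  obtain ⟨t, ht, hpow⟩ : ∃ t : ℕ, t.Prime ∧ ∀ r : ℕ, r.Prime → r ∣ C.index → r = t := by
    rcases h s hs hsd with rfl | rfl
    · exact ⟨q, hq, fun r hr hrd => (h r hr (hrd.trans C.index_dvd_card)).resolve_left
        fun e => hsC (e ▸ hrd)⟩
    · exact ⟨p, hp, fun r hr hrd => (h r hr (hrd.trans C.index_dvd_card)).resolve_right
        fun e => hsC (e ▸ hrd)⟩
  have hidx : C.index = t ^ C.index.factorization t :=
    Nat.eq_pow_of_factorization_eq_single Subgroup.index_ne_zero_of_finite (by
      ext r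
      by_cases hr : r = t
      · subst hr; rw [Finsupp.single_eq_same]
      · rw [Finsupp.single_eq_of_ne hr]
        by_cases hrp : r.Prime
        · exact Nat.factorization_eq_zero_of_not_dvd fun hd => hr (hpow r hrp hd)
        · exact Nat.factorization_eq_zero_of_not_prime _ hrp)
  have hprime := Cfsg.Agent.S0143.result t _ ht (z : G) (fun e => hz1 (Subtype.ext e)) hidx
  haveI := Fact.mk hprime
  haveI := isCyclic_of_prime_card (α := G) rfl
  obtain ⟨x, y, hxy⟩ := hna
  exact hxy (mul_comm' x y)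

theorem faithful (χ : IrrCharacter G) (hne : (χ : G → ℂ) ≠ fun _ => 1)
    (hna : ∃ x y : G, x * y ≠ y * x) :
    ∀ g : G, (χ : G → ℂ) g = (χ : G → ℂ) 1 → g = 1 := by
  obtain ⟨n, ρ, hρ, hχ, hn, -⟩ := IsIrr.exists_rep χ.2
  haveI := hρ
  intro g hg
  set N := MonoidHom.ker (ρ : G →* Module.End ℂ (Fin n → ℂ)) with hN
  rcases (inferInstance : N.Normal).eq_bot_or_eq_top with h | h
  · have : g ∈ N := by
      rw [hN, MonoidHom.mem_ker]
      exact (character_eq_finrank_iff ρ g).1 (by rw [hχ, hg, hn, Module.finrank_fin_fun])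
    rwa [h, Subgroup.mem_bot] at this
  · exfalso
    have hall : ∀ x : G, (χ : G → ℂ) x = (χ : G → ℂ) 1 := fun x => by
      have hx : ρ x = 1 := MonoidHom.mem_ker.1 (h ▸ Subgroup.mem_top x : x ∈ N)
      rw [← hχ]
      simp only [Representation.character, hx, map_one]
    letI := Fintype.ofFinite G
    have h1 := classInner_irr_ne (trivialIrr G).2 χ.2 fun e => hne e.symm
    rw [classInner, mul_eq_zero] at h1
    have h2 := h1.resolve_left (inv_ne_zero (Nat.cast_ne_zero.2 Nat.card_pos.ne'))
    simp only [show ∀ x, ((trivialIrr G : IrrCharacter G) : G → ℂ) x = 1 from fun _ => rfl,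
      one_mul, hall, charDeg_spec', map_natCast, Finset.sum_const, Finset.card_univ, nsmul_eq_mul,
      mul_eq_zero, Nat.cast_eq_zero] at h2
    rcases h2 with h2 | h2
    · exact Fintype.card_ne_zero h2
    · exact (charDeg_pos χ).ne' h2

theorem degree_ne_one (χ : IrrCharacter G) (hne : (χ : G → ℂ) ≠ fun _ => 1)
    (hna : ∃ x y : G, x * y ≠ y * x) : charDegree (χ : G → ℂ) ≠ 1 := by
  intro h1
  obtain ⟨l, hl⟩ := linearHom_of_isCharacter (IsIrr.isCharacter χ.2)
    (by rw [charDeg_spec', h1, Nat.cast_one])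
  refine hne (funext fun g => ?_)
  rw [hl]
  simp [ConstFour.linear_eq_one (commutator_top hna) l g]

/-- Elements of order divisible by three have order three. -/
theorem orderOf_three (hna : ∃ x y : G, x * y ≠ y * x) (χ : IrrCharacter G)
    (hne : (χ : G → ℂ) ≠ fun _ => 1) (h3 : charDegree (χ : G → ℂ) = 3)
    (hfull : (Nat.card G).factorization 3 = 1) {g : G} (hg : 3 ∣ orderOf g) : orderOf g = 3 := by
  haveI : Fact (Nat.Prime 3) := ⟨Nat.prime_three⟩
  obtain ⟨M, hM⟩ := exists_isPModular 3 Nat.prime_three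
  have hfull' : (charDegree (χ : G → ℂ)).factorization 3 = (Nat.card G).factorization 3 := by
    rw [h3, hfull, Nat.Prime.factorization_self Nat.prime_three]
  have hval : (χ : G → ℂ) 1 = 3 := by rw [charDeg_spec', h3]; norm_num
  obtain ⟨c, hc, hp, hnorm⟩ := ConstFour.eigen (commutator_top hna) χ.2 hval g
  have hg2 : 3 ∣ orderOf (g ^ 2) := by
    rw [orderOf_pow' g (by norm_num : (2 : ℕ) ≠ 0)]
    rw [← Nat.div_mul_cancel (Nat.gcd_dvd_left (orderOf g) 2)] at hg
    exact (Nat.Coprime.dvd_of_dvd_mul_right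
      (Nat.Coprime.coprime_dvd_right (Nat.gcd_dvd_right _ _) (by norm_num)) hg)
  have e1 := hc 1
  have e2 := hc 2
  rw [pow_one, defectZero_vanish hM χ hfull' hg] at e1
  rw [defectZero_vanish hM χ hfull' hg2] at e2
  simp only [pow_one] at e1
  have hs2 : c 0 * c 1 + c 0 * c 2 + c 1 * c 2 = 0 := by
    linear_combination (1 / 2 : ℂ) * e2 - (1 / 2 : ℂ) * (c 0 + c 1 + c 2) * e1
  have r0 : c 0 ^ 3 = 1 := by linear_combination hp - (c 0) ^ 2 * e1 - c 0 * hs2
  have r1 : c 1 ^ 3 = 1 := by linear_combination hp - (c 1) ^ 2 * e1 - c 1 * hs2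
  have r2 : c 2 ^ 3 = 1 := by linear_combination hp - (c 2) ^ 2 * e1 - c 2 * hs2
  have h33 : (χ : G → ℂ) (g ^ 3) = 3 := by rw [hc, r0, r1, r2]; norm_num
  have := faithful χ hne hna (g ^ 3) (h33.trans hval.symm)
  exact Nat.dvd_antisymm (orderOf_dvd_of_pow_eq_one this) hg

/-- Order `3 p^a q^b` with `a ≤ 2`. -/
theorem three_case (hna : ∃ x y : G, x * y ≠ y * x) {p q a b : ℕ} (hp : p.Prime) (hq : q.Prime)
    (hpq : p ≠ q) (ha : a ≤ 2) (hcard : Nat.card G = 3 * p ^ a * q ^ b) :
    Nonempty (G ≃* alternatingGroup (Fin 5)) ∨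
      Nonempty (G ≃* Matrix.ProjectiveSpecialLinearGroup (Fin 2) (ZMod 7)) := by
  classical
  haveI : Fact (Nat.Prime 3) := ⟨Nat.prime_three⟩
  have hdvd : ∀ r : ℕ, r.Prime → r ∣ Nat.card G → r = 3 ∨ r = p ∨ r = q := fun r hr hrd => by
    rw [hcard] at hrd
    rcases (Nat.Prime.dvd_mul hr).1 hrd with h | h
    · rcases (Nat.Prime.dvd_mul hr).1 h with h | h
      · exact Or.inl ((Nat.prime_dvd_prime_iff_eq hr Nat.prime_three).1 h)
      · exact Or.inr (Or.inl ((Nat.prime_dvd_prime_iff_eq hr hp).1 (hr.dvd_of_dvd_pow h)))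
    · exact Or.inr (Or.inr ((Nat.prime_dvd_prime_iff_eq hr hq).1 (hr.dvd_of_dvd_pow h)))
  have hp3 : p ≠ 3 := fun e => three_primes hna hp hq fun r hr hrd => by
    rcases hdvd r hr hrd with h | h | h <;> omega
  have hq3 : q ≠ 3 := fun e => three_primes hna hp hq fun r hr hrd => by
    rcases hdvd r hr hrd with h | h | h <;> omega
  haveI : Nontrivial G := inferInstance
  obtain ⟨-, χ, hne, k, hk⟩ := Cfsg.Agent.S4500.result (G := G) p q 3 a b 1 hp hq Nat.prime_three
    hpq hp3 hq3 ha (by rw [hcard]; ring)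
  have hf : (Nat.card G).factorization 3 = 1 := by
    rw [hcard, Nat.factorization_mul (by positivity [hp.pos]) (by positivity [hq.pos]),
      Nat.factorization_mul (by norm_num) (by positivity [hp.pos]), Finsupp.add_apply,
      Finsupp.add_apply, hp.factorization_pow, hq.factorization_pow,
      Nat.Prime.factorization_self Nat.prime_three, Finsupp.single_eq_of_ne hp3.symm,
      Finsupp.single_eq_of_ne hq3.symm, add_zero, add_zero]
  have hk1 : k = 1 := by
    have h1 : 3 ^ k ∣ Nat.card G := by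
      rw [← hk]; exact IsIrr.degree_dvd_card χ.2 (charDeg_spec' χ)
    have h2 := (Nat.prime_three.pow_dvd_iff_le_factorization Nat.card_pos.ne').1 h1
    have h3 : k ≠ 0 := fun e => degree_ne_one χ hne hna (by rw [hk, e, pow_zero])
    omega
  have h3d : charDegree (χ : G → ℂ) = 3 := by rw [hk, hk1, pow_one]
  obtain ⟨y, hy⟩ := exists_prime_orderOf_dvd_card' (G := G) 3 (by rw [hcard, mul_assoc]; exact dvd_mul_right _ _)
  set C := Subgroup.centralizer ({y} : Set G) with hC
  have hexp : ∀ c ∈ C, c ^ 3 = 1 := by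
    intro c hc
    by_contra hne3
    have hcy : Commute c y := Subgroup.mem_centralizer_singleton_iff.1 hc
    have h := orderOf_three hna χ hne h3d hf (g := c)
    by_cases h3c : 3 ∣ orderOf c
    · exact hne3 (by rw [← h h3c, pow_orderOf_eq_one])
    · have hco : (orderOf c).Coprime (orderOf y) := by
        rw [hy]; exact (Nat.prime_three.coprime_iff_not_dvd.2 h3c).symm
      have hmul := hcy.orderOf_mul_eq_mul_orderOf_of_coprime hco
      have h2 := orderOf_three hna χ hne h3d hf (g := c * y) (by rw [hmul, hy]; exact dvd_mul_left _ _)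
      rw [hmul, hy] at h2
      have : orderOf c = 1 := by omega
      rw [orderOf_eq_one_iff] at this
      exact hne3 (by rw [this, one_pow])
  have hCp : IsPGroup 3 C := fun c => ⟨1, Subtype.ext (by rw [pow_one]; exact hexp c c.2)⟩
  obtain ⟨j, hj⟩ := hCp.exists_card_eq
  have hj1 : j ≤ 1 := by
    rw [← hf]
    exact (Nat.prime_three.pow_dvd_iff_le_factorization Nat.card_pos.ne').1
      (hj ▸ C.card_subgroup_dvd_card)
  have hyC : y ∈ C := Subgroup.mem_centralizer_singleton_iff.2 rfl
  have hC3 : Nat.card C = 3 := by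
    have h1 : 3 ∣ Nat.card C := by
      have := orderOf_dvd_natCard (⟨y, hyC⟩ : C)
      rwa [← Subgroup.orderOf_coe, hy] at this
    interval_cases j <;> simp_all
  have hCz : C = Subgroup.zpowers y := (Subgroup.eq_of_le_of_card_ge (Subgroup.zpowers_le.2 hyC)
    (by rw [hC3, Nat.card_zpowers, hy])).symm
  have hself : Subgroup.centralizer (C : Set G) = C := by
    refine le_antisymm (fun g hg => Subgroup.mem_centralizer_singleton_iff.2 ?_) fun g hg => ?_
    · exact (Subgroup.mem_centralizer_iff.1 hg y hyC).symm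
    · rw [hCz] at hg ⊢
      refine Subgroup.mem_centralizer_iff.2 fun h hh => ?_
      obtain ⟨i, rfl⟩ := hg
      obtain ⟨j, rfl⟩ := hh
      exact (Commute.refl y).zpow_zpow j i |>.eq
  have hns := not_solvable hna
  rcases Fus.SCThree.concl_of_self_centralizing hC3 hself with
    ⟨N, hN, hnil, -, hq'⟩ | ⟨N, hN, hab, -, ⟨e⟩⟩ | h
  · exfalso
    rcases hN.eq_bot_or_eq_top with rfl | rfl
    · have hcq : Nat.card G = 3 ∨ Nat.card G = 6 := by
        rw [← Nat.card_congr (QuotientGroup.quotientBot (G := G)).toEquiv]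
        rcases hq' with h | ⟨⟨e⟩⟩
        · exact Or.inl h
        · exact Or.inr (by rw [Nat.card_congr e.toEquiv, Nat.card_eq_fintype_card, Fintype.card_perm]; rfl)
      refine three_primes hna Nat.prime_two Nat.prime_three fun r hr hrd => ?_
      have hr6 : r ∣ 6 := by rcases hcq with h | h <;> rw [h] at hrd <;> [exact hrd.trans (by norm_num); exact hrd]
      have := Nat.le_of_dvd (by norm_num) hr6
      interval_cases r <;> simp_all (config := { decide := true })
    · haveI : Group.IsSolvable (⊤ : Subgroup G) := @IsNilpotent.to_isSolvable _ _ hnil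
      exact hns (Group.isSolvable_of_surjective (f := (Subgroup.topEquiv (G := G)).toMonoidHom)
        Subgroup.topEquiv.surjective)
  · rcases hN.eq_bot_or_eq_top with rfl | rfl
    · exact Or.inl ⟨QuotientGroup.quotientBot.symm.trans e⟩
    · exfalso
      obtain ⟨x, y', hxy⟩ := hna
      exact hxy (congrArg Subtype.val
        (hab.is_comm.comm ⟨x, Subgroup.mem_top x⟩ ⟨y', Subgroup.mem_top y'⟩))
  · exact Or.inr h

end Cfsg.Agent.Block.FourPQ
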